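import Mathlib
import Groth.Agent.S0390
import Groth.Agent.Lib.Helper29.RegSeqPow
import Groth.Agent.Lib.Helper85.RegularSeq
import Groth.Agent.Lib.Helper85.HK.Twist

/-!
# Kunz: the Frobenius of a regular local ring is flat (helper85)
-/

set_option autoImplicit false
set_option linter.style.haveILetI false
set_option linter.unusedSectionVars false
universe u

namespace Groth.Agent.Lib.Helper85.Kunz

open Module TensorProduct RingTheory.Sequence Groth.Agent.Lib.Helper85.HK Pointwise

section tor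

variable {A : Type u} [CommRing A] (𝔞 : Ideal A)

/-- the multiplication map `𝔞 ⊗ N → N` -/
noncomputable def mulMap (N : Type u) [AddCommGroup N] [Module A N] : 𝔞 ⊗[A] N →ₗ[A] N :=
  (TensorProduct.lid A N).toLinearMap ∘ₗ LinearMap.rTensor N 𝔞.subtype

theorem mulMap_tmul (N : Type u) [AddCommGroup N] [Module A N] (a : 𝔞) (n : N) :
    mulMap 𝔞 N (a ⊗ₜ n) = (a : A) • n := by
  unfold mulMap
  rw [LinearMap.comp_apply, LinearMap.rTensor_tmul]
  exact TensorProduct.lid_tmul _ _

theorem smul_eq_tmul_mulMap (N : Type u) [AddCommGroup N] [Module A N] (a₀ : 𝔞) (t : 𝔞 ⊗[A] N) :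
    (a₀ : A) • t = a₀ ⊗ₜ mulMap 𝔞 N t := by
  induction t using TensorProduct.induction_on with
  | zero => rw [smul_zero, map_zero, tmul_zero]
  | tmul a n =>
    rw [mulMap_tmul, TensorProduct.smul_tmul', ← TensorProduct.smul_tmul]
    congr 1
    apply Subtype.ext
    change (a₀ : A) * (a : A) = (a : A) * (a₀ : A)
    ring
  | add t₁ t₂ h₁ h₂ => rw [smul_add, h₁, h₂, map_add, tmul_add]

/-- `Tor₁(A/(x), N) = 0` for an `N`-regular sequence, in equational form -/
theorem sum_tmul_eq_zero_of_isWeaklyRegular :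
    ∀ (n : ℕ) (N : Type u) [AddCommGroup N] [Module A N] (x : Fin n → A) (hx : ∀ i, x i ∈ 𝔞),
      IsWeaklyRegular N (List.ofFn x) → ∀ b : Fin n → N, ∑ i, x i • b i = 0 →
      ∑ i, (⟨x i, hx i⟩ : 𝔞) ⊗ₜ[A] b i = 0 := by
  intro n
  induction n with
  | zero =>
    intro N _ _ x hx _ b _
    exact Fin.sum_univ_zero _
  | succ n ih =>
    intro N _ _ x hx hreg b hsum
    rw [List.ofFn_succ, isWeaklyRegular_cons_iff] at hreg
    obtain ⟨hreg0, hregs⟩ := hreg
    rw [Fin.sum_univ_succ] at hsum ⊢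
    set π := Submodule.mkQ (x 0 • (⊤ : Submodule A N)) with hπ
    set f : N →ₗ[A] N := x 0 • LinearMap.id with hf
    have hexact : Function.Exact f π := by
      intro y
      rw [hπ, Submodule.mkQ_apply, Submodule.Quotient.mk_eq_zero,
        Submodule.mem_smul_pointwise_iff_exists]
      constructor
      · rintro ⟨z, -, rfl⟩
        exact ⟨z, rfl⟩
      · rintro ⟨z, rfl⟩
        exact ⟨z, trivial, rfl⟩
    set t : 𝔞 ⊗[A] N := ∑ i : Fin n, (⟨x i.succ, hx i.succ⟩ : 𝔞) ⊗ₜ[A] b i.succ with ht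
    have hbar : ∑ i : Fin n, x i.succ • π (b i.succ) = 0 := by
      have h1 : ∑ i : Fin n, x i.succ • b i.succ = - (x 0 • b 0) :=
        eq_neg_of_add_eq_zero_right hsum
      simp only [← map_smul, ← map_sum]
      rw [h1, map_neg, neg_eq_zero, hπ, Submodule.mkQ_apply, Submodule.Quotient.mk_eq_zero]
      exact Submodule.smul_mem_pointwise_smul _ _ _ trivial
    have hIH := ih (QuotSMulTop (x 0) N) (fun i => x i.succ) (fun i => hx i.succ) hregs
      (fun i => π (b i.succ)) hbar
    have hker : LinearMap.lTensor 𝔞 π t = 0 := by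
      rw [ht, map_sum]
      simp only [LinearMap.lTensor_tmul]
      exact hIH
    obtain ⟨t', ht'⟩ := (lTensor_exact 𝔞 hexact (Submodule.mkQ_surjective _) t).mp hker
    have hft : LinearMap.lTensor 𝔞 f t' = x 0 • t' := by
      rw [hf, LinearMap.lTensor_smul, LinearMap.lTensor_id]
      rfl
    rw [hft, smul_eq_tmul_mulMap 𝔞 N ⟨x 0, hx 0⟩ t'] at ht'
    -- apply the multiplication map
    have hmu : mulMap 𝔞 N t = ∑ i : Fin n, x i.succ • b i.succ := by
      rw [ht, map_sum]
      exact Finset.sum_congr rfl fun i _ => mulMap_tmul 𝔞 N _ _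
    have hmu' : mulMap 𝔞 N t = x 0 • mulMap 𝔞 N t' := by
      rw [← ht', mulMap_tmul]
    have hzero : b 0 + mulMap 𝔞 N t' = 0 := by
      apply hreg0
      change x 0 • (b 0 + mulMap 𝔞 N t') = x 0 • 0
      rw [smul_add, ← hmu', hmu, hsum, smul_zero]
    rw [← ht', ← tmul_add, hzero, tmul_zero]

theorem exists_eq_sum_tmul {n : ℕ} (x : Fin n → A) (hx : ∀ i, x i ∈ 𝔞)
    (hspan : Ideal.span (Set.range x) = 𝔞) (N : Type u) [AddCommGroup N] [Module A N]
    (t : 𝔞 ⊗[A] N) : ∃ b : Fin n → N, t = ∑ i, (⟨x i, hx i⟩ : 𝔞) ⊗ₜ[A] b i := by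
  induction t using TensorProduct.induction_on with
  | zero => exact ⟨0, by simp⟩
  | tmul a s =>
    have ha : (a : A) ∈ Ideal.span (Set.range x) := by
      rw [hspan]
      exact a.2
    obtain ⟨r, hr⟩ := Ideal.mem_span_range_iff_exists_fun.mp ha
    refine ⟨fun i => r i • s, ?_⟩
    have h1 : a = ∑ i, r i • (⟨x i, hx i⟩ : 𝔞) := by
      apply Subtype.ext
      rw [← hr]
      simp only [Submodule.coe_sum]
      rfl
    rw [h1, TensorProduct.sum_tmul]
    exact Finset.sum_congr rfl fun i _ => TensorProduct.smul_tmul _ _ _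
  | add t₁ t₂ h₁ h₂ =>
    obtain ⟨b₁, rfl⟩ := h₁
    obtain ⟨b₂, rfl⟩ := h₂
    refine ⟨b₁ + b₂, ?_⟩
    rw [← Finset.sum_add_distrib]
    exact Finset.sum_congr rfl fun i _ => by rw [Pi.add_apply, tmul_add]

/-- `𝔞 ⊗ N → N` is injective when `𝔞` is generated by an `N`-regular sequence -/
theorem rTensor_subtype_injective_of_isWeaklyRegular {n : ℕ} (x : Fin n → A)
    (hspan : Ideal.span (Set.range x) = 𝔞) (N : Type u) [AddCommGroup N] [Module A N]
    (hreg : IsWeaklyRegular N (List.ofFn x)) :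
    Function.Injective (LinearMap.rTensor N 𝔞.subtype) := by
  have hx : ∀ i, x i ∈ 𝔞 := fun i => by
    rw [← hspan]
    exact Ideal.subset_span ⟨i, rfl⟩
  rw [injective_iff_map_eq_zero]
  intro t ht
  obtain ⟨b, rfl⟩ := exists_eq_sum_tmul 𝔞 x hx hspan N t
  apply sum_tmul_eq_zero_of_isWeaklyRegular 𝔞 n N x hx hreg b
  have h1 : mulMap 𝔞 N (∑ i, (⟨x i, hx i⟩ : 𝔞) ⊗ₜ[A] b i) = 0 := by
    unfold mulMap
    rw [LinearMap.comp_apply, ht, map_zero]
  rw [map_sum] at h1
  rw [← h1]
  exact Finset.sum_congr rfl fun i _ => (mulMap_tmul 𝔞 N ⟨x i, hx i⟩ (b i)).symm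

end tor

section regular

variable (A : Type u) [CommRing A] (p : ℕ) [Fact p.Prime] [CharP A p]

instance frobTarget_isLocalRing [IsLocalRing A] (e : ℕ) : IsLocalRing (Tw.FrobTarget p e A) :=
  inferInstanceAs (IsLocalRing A)

instance frobTarget_isNoetherianRing [IsNoetherianRing A] (e : ℕ) :
    IsNoetherianRing (Tw.FrobTarget p e A) :=
  inferInstanceAs (IsNoetherianRing A)

instance frobTarget_isLocalHom (e : ℕ) : IsLocalHom (algebraMap A (Tw.FrobTarget p e A)) where
  map_nonunit a ha := by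
    have h1 : IsUnit (a ^ p ^ e : A) := ha
    exact (isUnit_pow_iff (pow_ne_zero e (Fact.out : p.Prime).ne_zero)).mp h1

omit [Fact p.Prime] [CharP A p] in
theorem exists_nat_ringKrullDim_eq' [IsLocalRing A] [IsNoetherianRing A] :
    ∃ d : ℕ, ringKrullDim A = d := by
  have h1 := ringKrullDim_ne_bot (R := A)
  have h2 := ringKrullDim_ne_top (R := A)
  generalize ringKrullDim A = D at h1 h2
  induction D with
  | bot => exact absurd rfl h1
  | coe D =>
    induction D with
    | top => exact absurd rfl h2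
    | coe n => exact ⟨n, rfl⟩

/-- **Kunz**: the Frobenius of a regular local ring is flat -/
theorem frobenius_flat_of_isRegularLocalRing [IsRegularLocalRing A] : (frobenius A p).Flat := by
  classical
  obtain ⟨d, hd⟩ := exists_nat_ringKrullDim_eq' A
  obtain ⟨s, hcard, hspan⟩ := Submodule.FG.exists_span_finset_card_eq_spanFinrank
    (IsNoetherian.noetherian (IsLocalRing.maximalIdeal A))
  have hsd : s.card = d := by
    have h1 : ((IsLocalRing.maximalIdeal A).spanFinrank : WithBot ℕ∞) = (d : WithBot ℕ∞) := by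
      rw [IsRegularLocalRing.spanFinrank_maximalIdeal, hd]
    rw [← hcard] at h1
    exact_mod_cast h1
  subst hsd
  let x : Fin s.card → A := fun i => ((s.equivFin.symm i : s) : A)
  have hrange : Set.range x = (s : Set A) := by
    ext a
    constructor
    · rintro ⟨j, rfl⟩
      exact (s.equivFin.symm j).2
    · intro ha
      exact ⟨s.equivFin ⟨a, ha⟩, by
        change ((s.equivFin.symm (s.equivFin ⟨a, ha⟩) : s) : A) = a
        rw [Equiv.symm_apply_apply]⟩
  have hx : Ideal.span (Set.range x) = IsLocalRing.maximalIdeal A := by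
    rw [hrange]
    exact hspan
  have hreg : IsRegular A (List.ofFn x) :=
    Groth.Agent.Lib.Helper85.isRegular_ofFn_of_span_eq_maximalIdeal s.card hd x hx
  have hregp : IsWeaklyRegular A (List.ofFn fun i => x i ^ p) :=
    Groth.Agent.Lib.Helper29.isWeaklyRegular_ofFn_pow s.card A x (fun _ => p)
      (fun _ => (Fact.out : p.Prime).pos) hreg.toIsWeaklyRegular
  rw [← iterateFrobenius_one]
  change Module.Flat A (Tw.FrobTarget p 1 A)
  have hregS : IsWeaklyRegular (Tw.FrobTarget p 1 A) (List.ofFn x) := by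
    rw [← isWeaklyRegular_map_algebraMap_iff (Tw.FrobTarget p 1 A) (Tw.FrobTarget p 1 A)
      (List.ofFn x), List.map_ofFn]
    have h1 : (⇑(algebraMap A (Tw.FrobTarget p 1 A)) ∘ x) = fun i => x i ^ p := by
      funext i
      change iterateFrobenius A p 1 (x i) = _
      rw [iterateFrobenius_def, pow_one]
    rw [h1]
    exact hregp
  exact Groth.Agent.S0390.result (R := A) (S := Tw.FrobTarget p 1 A) (M := Tw.FrobTarget p 1 A)
    (rTensor_subtype_injective_of_isWeaklyRegular _ x hx _ hregS)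

end regular

end Groth.Agent.Lib.Helper85.Kunz
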