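import Mathlib

/-!
# Lech's lemma on independent sequences (helper85)
-/

set_option autoImplicit false
set_option linter.style.haveILetI false
set_option linter.unusedSectionVars false
universe u

namespace Groth.Agent.Lib.Helper85.Kunz

open Module

variable {A : Type u} [CommRing A]

section abstract

/-- multiplication by `g` as a map `A ⧸ (h, 𝔯) → A ⧸ (g h, 𝔯)` -/
noncomputable def mulQuot (𝔯 : Ideal A) (g h : A) :
    (A ⧸ (Ideal.span {h} ⊔ 𝔯)) →ₗ[A] (A ⧸ (Ideal.span {g * h} ⊔ 𝔯)) :=
  Submodule.mapQ _ _ (LinearMap.mulLeft A g) (by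
    intro a ha
    rw [Submodule.mem_comap, LinearMap.mulLeft_apply]
    obtain ⟨b, hb, r, hr, rfl⟩ := Submodule.mem_sup.mp ha
    obtain ⟨c, rfl⟩ := Ideal.mem_span_singleton'.mp hb
    rw [mul_add]
    refine Submodule.add_mem _ (Ideal.mem_sup_left ?_) (Ideal.mem_sup_right (Ideal.mul_mem_left _ _ hr))
    rw [Ideal.mem_span_singleton']
    exact ⟨c, by ring⟩)

theorem mulQuot_mk (𝔯 : Ideal A) (g h a : A) :
    mulQuot 𝔯 g h (Submodule.Quotient.mk a) = Submodule.Quotient.mk (g * a) := rfl

/-- the projection `A ⧸ (g h, 𝔯) → A ⧸ (g, 𝔯)` -/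
noncomputable def projQuot (𝔯 : Ideal A) (g h : A) :
    (A ⧸ (Ideal.span {g * h} ⊔ 𝔯)) →ₗ[A] (A ⧸ (Ideal.span {g} ⊔ 𝔯)) :=
  Submodule.factor (sup_le_sup_right (by
    rw [Ideal.span_singleton_le_iff_mem]
    exact Ideal.mul_mem_right _ _ (Ideal.mem_span_singleton_self g)) 𝔯)

theorem projQuot_mk (𝔯 : Ideal A) (g h a : A) :
    projQuot 𝔯 g h (Submodule.Quotient.mk a) = Submodule.Quotient.mk a := rfl

/-- **Lech's lemma**, length form -/
theorem length_quotient_mul (𝔯 : Ideal A) (g h : A)
    (H : ∀ a : A, a * (g * h) ∈ 𝔯 → a ∈ Ideal.span {g * h} ⊔ 𝔯) :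
    Module.length A (A ⧸ (Ideal.span {g * h} ⊔ 𝔯)) =
      Module.length A (A ⧸ (Ideal.span {g} ⊔ 𝔯)) + Module.length A (A ⧸ (Ideal.span {h} ⊔ 𝔯)) := by
  rw [add_comm]
  refine Module.length_eq_add_of_exact (mulQuot 𝔯 g h) (projQuot 𝔯 g h) ?_ ?_ ?_
  · -- injectivity
    rw [← LinearMap.ker_eq_bot, LinearMap.ker_eq_bot']
    intro y hy
    obtain ⟨a, rfl⟩ := Submodule.mkQ_surjective _ y
    rw [Submodule.mkQ_apply, mulQuot_mk, Submodule.Quotient.mk_eq_zero] at hy
    rw [Submodule.mkQ_apply, Submodule.Quotient.mk_eq_zero]
    obtain ⟨b, hb, r, hr, hsum⟩ := Submodule.mem_sup.mp hy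
    obtain ⟨c, rfl⟩ := Ideal.mem_span_singleton'.mp hb
    -- `g * (a - c * h) = r ∈ 𝔯`
    have h1 : (a - c * h) * (g * h) ∈ 𝔯 := by
      have : (a - c * h) * (g * h) = h * r := by
        have : r = g * a - c * (g * h) := by rw [← hsum]; ring
        rw [this]; ring
      rw [this]
      exact Ideal.mul_mem_left _ _ hr
    have h2 := H _ h1
    have h3 : Ideal.span {g * h} ⊔ 𝔯 ≤ Ideal.span {h} ⊔ 𝔯 := sup_le_sup_right (by
      rw [Ideal.span_singleton_le_iff_mem]
      exact Ideal.mul_mem_left _ _ (Ideal.mem_span_singleton_self h)) 𝔯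
    have h4 : c * h ∈ Ideal.span {h} ⊔ 𝔯 :=
      Ideal.mem_sup_left (Ideal.mul_mem_left _ _ (Ideal.mem_span_singleton_self h))
    have : a = (a - c * h) + c * h := by ring
    rw [this]
    exact Submodule.add_mem _ (h3 h2) h4
  · -- surjectivity
    intro y
    obtain ⟨a, rfl⟩ := Submodule.mkQ_surjective _ y
    exact ⟨Submodule.Quotient.mk a, rfl⟩
  · -- exactness
    intro y
    obtain ⟨a, rfl⟩ := Submodule.mkQ_surjective _ y
    rw [Submodule.mkQ_apply, projQuot_mk, Submodule.Quotient.mk_eq_zero]
    constructor
    · intro ha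
      obtain ⟨b, hb, r, hr, rfl⟩ := Submodule.mem_sup.mp ha
      obtain ⟨c, rfl⟩ := Ideal.mem_span_singleton'.mp hb
      refine ⟨Submodule.Quotient.mk c, ?_⟩
      rw [mulQuot_mk, Submodule.Quotient.eq]
      have : g * c - (c * g + r) = -r := by ring
      rw [this]
      exact Ideal.mem_sup_right (Submodule.neg_mem _ hr)
    · rintro ⟨z, hz⟩
      obtain ⟨c, rfl⟩ := Submodule.mkQ_surjective _ z
      rw [Submodule.mkQ_apply, mulQuot_mk, Submodule.Quotient.eq] at hz
      have h1 : g * c ∈ Ideal.span {g} ⊔ 𝔯 :=
        Ideal.mem_sup_left (Ideal.mul_mem_right _ _ (Ideal.mem_span_singleton_self g))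
      have h2 : Ideal.span {g * h} ⊔ 𝔯 ≤ Ideal.span {g} ⊔ 𝔯 := sup_le_sup_right (by
        rw [Ideal.span_singleton_le_iff_mem]
        exact Ideal.mul_mem_right _ _ (Ideal.mem_span_singleton_self g)) 𝔯
      have : a = g * c - (g * c - a) := by ring
      rw [this]
      exact Submodule.sub_mem _ h1 (h2 hz)

end abstract

section indep

variable {ι : Type} [Fintype ι] [DecidableEq ι]

/-- Lech independence: every relation among the `f i` has coefficients in the ideal they span -/
def Indep (f : ι → A) : Prop :=
  ∀ a : ι → A, ∑ i, a i * f i = 0 → ∀ i, a i ∈ Ideal.span (Set.range f)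

/-- the ideal generated by the `f i`, `i ≠ i₀` -/
def rest (f : ι → A) (i₀ : ι) : Ideal A := Ideal.span (Set.range (Function.update f i₀ 0))

theorem sum_mul_update (c f : ι → A) (i₀ : ι) (g : A) :
    ∑ i, c i * (Function.update f i₀ g) i =
      c i₀ * g + ∑ i ∈ Finset.univ.erase i₀, c i * f i := by
  rw [← Finset.add_sum_erase Finset.univ _ (Finset.mem_univ i₀), Function.update_self]
  congr 1
  exact Finset.sum_congr rfl fun i hi => by
    rw [Function.update_of_ne (Finset.ne_of_mem_erase hi)]

theorem sum_mul_split (c f : ι → A) (i₀ : ι) :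
    ∑ i, c i * f i = c i₀ * f i₀ + ∑ i ∈ Finset.univ.erase i₀, c i * f i :=
  (Finset.add_sum_erase Finset.univ _ (Finset.mem_univ i₀)).symm

theorem sum_update_mul (c f : ι → A) (i₀ : ι) (b : A) :
    ∑ i, (Function.update c i₀ b) i * f i =
      b * f i₀ + ∑ i ∈ Finset.univ.erase i₀, c i * f i := by
  rw [← Finset.add_sum_erase Finset.univ _ (Finset.mem_univ i₀), Function.update_self]
  congr 1
  exact Finset.sum_congr rfl fun i hi => by
    rw [Function.update_of_ne (Finset.ne_of_mem_erase hi)]

theorem rest_update (f : ι → A) (i₀ : ι) (g : A) :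
    rest (Function.update f i₀ g) i₀ = rest f i₀ := by
  unfold rest
  rw [Function.update_idem]

theorem span_range_eq_sup_rest (f : ι → A) (i₀ : ι) :
    Ideal.span (Set.range f) = Ideal.span {f i₀} ⊔ rest f i₀ := by
  apply le_antisymm
  · rw [Ideal.span_le]
    rintro _ ⟨i, rfl⟩
    by_cases hi : i = i₀
    · rw [hi]
      exact Ideal.mem_sup_left (Ideal.mem_span_singleton_self _)
    · refine Ideal.mem_sup_right (Ideal.subset_span ⟨i, ?_⟩)
      rw [Function.update_of_ne hi]
  · refine sup_le ?_ ?_
    · rw [Ideal.span_singleton_le_iff_mem]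
      exact Ideal.subset_span ⟨i₀, rfl⟩
    · unfold rest
      rw [Ideal.span_le]
      rintro _ ⟨i, rfl⟩
      by_cases hi : i = i₀
      · rw [hi, Function.update_self]
        exact Submodule.zero_mem _
      · rw [Function.update_of_ne hi]
        exact Ideal.subset_span ⟨i, rfl⟩

theorem span_range_update (f : ι → A) (i₀ : ι) (g : A) :
    Ideal.span (Set.range (Function.update f i₀ g)) = Ideal.span {g} ⊔ rest f i₀ := by
  rw [span_range_eq_sup_rest (Function.update f i₀ g) i₀, Function.update_self, rest_update]

theorem mem_rest_iff (f : ι → A) (i₀ : ι) (y : A) :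
    y ∈ rest f i₀ ↔ ∃ c : ι → A, ∑ i ∈ Finset.univ.erase i₀, c i * f i = y := by
  unfold rest
  rw [Ideal.mem_span_range_iff_exists_fun]
  constructor
  · rintro ⟨c, rfl⟩
    refine ⟨c, ?_⟩
    rw [sum_mul_update, mul_zero, zero_add]
  · rintro ⟨c, rfl⟩
    refine ⟨c, ?_⟩
    rw [sum_mul_update, mul_zero, zero_add]

/-- the hypothesis of Lech's lemma -/
theorem Indep.mem_of_mul_mem_rest {f : ι → A} (hf : Indep f) (i₀ : ι) (a : A)
    (ha : a * f i₀ ∈ rest f i₀) : a ∈ Ideal.span (Set.range f) := by
  obtain ⟨c, hc⟩ := (mem_rest_iff f i₀ _).mp ha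
  have h := hf (Function.update (fun i => - c i) i₀ a) (by
    rw [sum_update_mul, ← hc]
    simp only [neg_mul, Finset.sum_neg_distrib]
    ring) i₀
  rwa [Function.update_self] at h

/-- **Lech's lemma**, independence part -/
theorem Indep.update_of_eq_mul {f : ι → A} (hf : Indep f) (i₀ : ι) (g h : A)
    (hgh : f i₀ = g * h) : Indep (Function.update f i₀ g) := by
  intro a ha
  rw [sum_mul_update] at ha
  set S := ∑ i ∈ Finset.univ.erase i₀, a i * f i with hS
  have hle : Ideal.span (Set.range f) ≤ Ideal.span (Set.range (Function.update f i₀ g)) := by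
    rw [Ideal.span_le]
    rintro _ ⟨i, rfl⟩
    by_cases hi : i = i₀
    · rw [hi, hgh]
      exact Ideal.mul_mem_right _ _ (Ideal.subset_span ⟨i₀, Function.update_self ..⟩)
    · exact Ideal.subset_span ⟨i, Function.update_of_ne hi ..⟩
  have hg : g ∈ Ideal.span (Set.range (Function.update f i₀ g)) :=
    Ideal.subset_span ⟨i₀, Function.update_self ..⟩
  -- step 1
  have h1 : a i₀ ∈ Ideal.span (Set.range f) := by
    have := hf (Function.update (fun i => a i * h) i₀ (a i₀)) (by
      rw [sum_update_mul, hgh]
      have : ∑ i ∈ Finset.univ.erase i₀, a i * h * f i = h * S := by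
        rw [hS, Finset.mul_sum]
        exact Finset.sum_congr rfl fun i _ => by ring
      rw [this]
      linear_combination h * ha) i₀
    rwa [Function.update_self] at this
  -- step 2
  obtain ⟨d, hd⟩ := (Ideal.mem_span_range_iff_exists_fun).mp h1
  rw [sum_mul_split d f i₀, hgh] at hd
  set D := ∑ i ∈ Finset.univ.erase i₀, d i * f i with hD
  -- step 3
  have h3 : ∀ i, i ≠ i₀ → a i + d i * g ∈ Ideal.span (Set.range f) := by
    intro i hi
    have := hf (Function.update (fun i => a i + d i * g) i₀ (d i₀ * g)) (by
      rw [sum_update_mul, hgh]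
      have : ∑ i ∈ Finset.univ.erase i₀, (a i + d i * g) * f i = S + g * D := by
        rw [hS, hD, Finset.mul_sum, ← Finset.sum_add_distrib]
        exact Finset.sum_congr rfl fun i _ => by ring
      rw [this]
      linear_combination ha + g * hd) i
    rwa [Function.update_of_ne hi] at this
  intro i
  by_cases hi : i = i₀
  · rw [hi]
    exact hle h1
  · have : a i = (a i + d i * g) - d i * g := by ring
    rw [this]
    exact Submodule.sub_mem _ (hle (h3 i hi)) (Ideal.mul_mem_left _ _ hg)

end indep

section powers

variable {ι : Type} [Fintype ι] [DecidableEq ι] (x : ι → A)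

/-- the family `x_i ^ a_i` -/
def powFam (a : ι → ℕ) : ι → A := fun i => x i ^ a i

theorem powFam_update (a : ι → ℕ) (i : ι) (c : ℕ) :
    powFam x (Function.update a i c) = Function.update (powFam x a) i (x i ^ c) := by
  funext j
  by_cases hj : j = i
  · rw [hj, Function.update_self]
    unfold powFam
    rw [Function.update_self]
  · rw [Function.update_of_ne hj]
    unfold powFam
    rw [Function.update_of_ne hj]

theorem Indep.pow_pred {a : ι → ℕ} (i : ι)
    (h : Indep (powFam x (Function.update a i (a i + 1)))) : Indep (powFam x a) := by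
  have h1 := h.update_of_eq_mul i (x i ^ a i) (x i) (by
    unfold powFam
    rw [Function.update_self, pow_succ])
  rw [powFam_update, Function.update_idem] at h1
  have : Function.update (powFam x a) i (x i ^ a i) = powFam x a :=
    Function.update_eq_self i (powFam x a)
  rwa [this] at h1

theorem Indep.of_le : ∀ (N : ℕ) (a b : ι → ℕ), (∀ i, a i ≤ b i) → ∑ i, (b i - a i) = N →
    Indep (powFam x b) → Indep (powFam x a) := by
  intro N
  induction N with
  | zero =>
    intro a b hab hN hb
    have : a = b := by
      funext i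
      have := (Finset.sum_eq_zero_iff.mp hN) i (Finset.mem_univ i)
      have := hab i
      omega
    rwa [this]
  | succ N ih =>
    intro a b hab hN hb
    have hex : ∃ i, a i < b i := by
      by_contra hcon
      push Not at hcon
      have : ∑ i, (b i - a i) = 0 :=
        Finset.sum_eq_zero fun i _ => Nat.sub_eq_zero_of_le (hcon i)
      omega
    obtain ⟨i, hi⟩ := hex
    have hb' : Indep (powFam x (Function.update b i (b i - 1))) := by
      apply Indep.pow_pred x i
      rw [Function.update_self, Function.update_idem]
      have : b i - 1 + 1 = b i := by omega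
      rw [this, Function.update_eq_self]
      exact hb
    refine ih a (Function.update b i (b i - 1)) ?_ ?_ hb'
    · intro j
      by_cases hj : j = i
      · rw [hj, Function.update_self]
        omega
      · rw [Function.update_of_ne hj]
        exact hab j
    · have h1 : ∑ j, (b j - a j) = (b i - a i) + ∑ j ∈ Finset.univ.erase i, (b j - a j) :=
        (Finset.add_sum_erase Finset.univ _ (Finset.mem_univ i)).symm
      have h2 : ∑ j, (Function.update b i (b i - 1) j - a j) =
          (b i - 1 - a i) + ∑ j ∈ Finset.univ.erase i, (b j - a j) := by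
        rw [← Finset.add_sum_erase Finset.univ _ (Finset.mem_univ i), Function.update_self]
        congr 1
        exact Finset.sum_congr rfl fun j hj => by
          rw [Function.update_of_ne (Finset.ne_of_mem_erase hj)]
      rw [h2]
      omega

/-- `ℓ(A/(x^a)) = (∏ a_i) ℓ(A/(x))` when `x^q` is independent and `a ≤ q` -/
theorem length_quotient_powFam (q : ℕ) (hq : Indep (powFam x fun _ => q)) :
    ∀ (N : ℕ) (a : ι → ℕ), (∀ i, a i ≤ q) → ∑ i, a i = N →
      Module.length A (A ⧸ Ideal.span (Set.range (powFam x a))) =
        ((∏ i, a i : ℕ) : ℕ∞) * Module.length A (A ⧸ Ideal.span (Set.range x)) := by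
  intro N
  induction N using Nat.strong_induction_on with
  | _ N ih =>
    intro a ha hN
    by_cases h0 : ∃ i, a i = 0
    · obtain ⟨i, hi⟩ := h0
      have h1 : Ideal.span (Set.range (powFam x a)) = ⊤ := by
        rw [Ideal.eq_top_iff_one]
        refine Ideal.subset_span ⟨i, ?_⟩
        unfold powFam
        rw [hi, pow_zero]
      have h2 : ∏ j, a j = 0 := Finset.prod_eq_zero (Finset.mem_univ i) hi
      rw [h1, h2, Nat.cast_zero, zero_mul, Module.length_eq_zero_iff]
      exact Submodule.Quotient.subsingleton_iff.mpr rfl
    · push Not at h0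
      by_cases h1 : ∃ i, 2 ≤ a i
      · obtain ⟨i, hi⟩ := h1
        -- split `x_i ^ a_i = x_i ^ (a_i - 1) * x_i`
        have hInd : Indep (powFam x a) :=
          Indep.of_le x _ a (fun _ => q) ha rfl hq
        have hsplit : powFam x a i = x i ^ (a i - 1) * x i := by
          unfold powFam
          rw [← pow_succ]
          congr 1
          omega
        have hL := length_quotient_mul (rest (powFam x a) i) (x i ^ (a i - 1)) (x i) (by
          intro c hc
          rw [← hsplit] at hc ⊢
          rw [← span_range_eq_sup_rest]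
          exact hInd.mem_of_mul_mem_rest i c hc)
        rw [← hsplit, ← span_range_eq_sup_rest, ← span_range_update, ← span_range_update,
          ← powFam_update, ← pow_one (x i), ← powFam_update] at hL
        rw [hL]
        have hiN : a i ≤ N := by
          rw [← hN]
          exact Finset.single_le_sum (f := a) (fun _ _ => Nat.zero_le _) (Finset.mem_univ i)
        have e1 := ih (N - 1) (by omega) (Function.update a i (a i - 1)) (by
          intro j
          by_cases hj : j = i
          · rw [hj, Function.update_self]
            have := ha i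
            omega
          · rw [Function.update_of_ne hj]
            exact ha j) (by
          rw [← hN, ← Finset.add_sum_erase Finset.univ _ (Finset.mem_univ i),
            ← Finset.add_sum_erase Finset.univ a (Finset.mem_univ i), Function.update_self]
          have : ∑ j ∈ Finset.univ.erase i, Function.update a i (a i - 1) j =
              ∑ j ∈ Finset.univ.erase i, a j :=
            Finset.sum_congr rfl fun j hj => by
              rw [Function.update_of_ne (Finset.ne_of_mem_erase hj)]
          rw [this]
          omega)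
        have e2 := ih (N - a i + 1) (by omega) (Function.update a i 1) (by
          intro j
          by_cases hj : j = i
          · rw [hj, Function.update_self]
            have := ha i
            omega
          · rw [Function.update_of_ne hj]
            exact ha j) (by
          rw [← hN, ← Finset.add_sum_erase Finset.univ _ (Finset.mem_univ i),
            ← Finset.add_sum_erase Finset.univ a (Finset.mem_univ i), Function.update_self]
          have : ∑ j ∈ Finset.univ.erase i, Function.update a i 1 j =
              ∑ j ∈ Finset.univ.erase i, a j :=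
            Finset.sum_congr rfl fun j hj => by
              rw [Function.update_of_ne (Finset.ne_of_mem_erase hj)]
          rw [this]
          omega)
        rw [e1, e2, ← add_mul]
        congr 1
        rw [Finset.prod_update_of_mem (Finset.mem_univ i),
          Finset.prod_update_of_mem (Finset.mem_univ i)]
        have hP : ∏ j, a j = a i * ∏ j ∈ Finset.univ \ {i}, a j := by
          rw [← Finset.mul_prod_erase Finset.univ a (Finset.mem_univ i)]
          congr 1
          apply Finset.prod_congr _ fun _ _ => rfl
          ext j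
          simp [Finset.mem_erase, Finset.mem_sdiff]
        rw [hP]
        have : a i = (a i - 1) + 1 := by omega
        set P := ∏ j ∈ Finset.univ \ {i}, a j
        rw [← Nat.cast_add]
        congr 1
        nlinarith [this]
      · push Not at h1
        have ha1 : a = fun _ => 1 := by
          funext i
          have := h0 i
          have := h1 i
          omega
        subst ha1
        have : powFam x (fun _ => 1) = x := by
          funext i
          unfold powFam
          rw [pow_one]
        rw [this]
        simp

end powers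

end Groth.Agent.Lib.Helper85.Kunz
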