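import Mathlib
import Groth.Agent.Lib.Helper85.Kunz.Lech
import Groth.Agent.Lib.Helper85.HK.Existence

/-!
# Kunz: a local ring with flat Frobenius is regular (helper85)
-/

set_option autoImplicit false
set_option linter.style.haveILetI false
set_option linter.unusedSectionVars false
universe u

namespace Groth.Agent.Lib.Helper85.Kunz

open Module Groth.Agent.Lib.Helper85.HK Groth.Agent.Lib.Helper85.HS
  Groth.Agent.Lib.Helper85.Serre

variable {A : Type u} [CommRing A] (p : ℕ) [Fact p.Prime] [CharP A p]

theorem iterateFrobenius_flat (hF : (frobenius A p).Flat) :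
    ∀ e : ℕ, (iterateFrobenius A p e).Flat
  | 0 => by
    rw [iterateFrobenius_zero]
    exact RingHom.Flat.id A
  | e + 1 => by
    rw [iterateFrobenius_add, iterateFrobenius_one]
    exact hF.comp (iterateFrobenius_flat hF e)

section minimal

variable [IsLocalRing A] [IsNoetherianRing A]

/-- relations among minimal generators of the maximal ideal have coefficients in it -/
theorem mem_maximalIdeal_of_relation {n : ℕ} (x : Fin n → A)
    (hx : Ideal.span (Set.range x) = IsLocalRing.maximalIdeal A)
    (hn : (IsLocalRing.maximalIdeal A).spanFinrank = n) (c : Fin n → A)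
    (hc : ∑ i, c i * x i = 0) (i₀ : Fin n) : c i₀ ∈ IsLocalRing.maximalIdeal A := by
  classical
  by_contra hcon
  have hu : IsUnit (c i₀) := by
    by_contra hnu
    exact hcon ((IsLocalRing.mem_maximalIdeal _).mpr hnu)
  obtain ⟨u, hu⟩ := hu
  set s : Set A := x '' ((Finset.univ.erase i₀ : Finset (Fin n)) : Set (Fin n)) with hs
  have h1 : x i₀ ∈ Ideal.span s := by
    rw [sum_mul_split c x i₀] at hc
    have h2 : x i₀ = - (↑u⁻¹ : A) * ∑ i ∈ Finset.univ.erase i₀, c i * x i := by
      have h3 : c i₀ * x i₀ = - ∑ i ∈ Finset.univ.erase i₀, c i * x i :=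
        eq_neg_of_add_eq_zero_left hc
      have h4 : (↑u⁻¹ : A) * c i₀ = 1 := by rw [← hu]; exact u.inv_mul
      calc x i₀ = (↑u⁻¹ * c i₀) * x i₀ := by rw [h4, one_mul]
        _ = ↑u⁻¹ * (c i₀ * x i₀) := by ring
        _ = _ := by rw [h3]; ring
    rw [h2]
    refine Ideal.mul_mem_left _ _ (Ideal.sum_mem _ fun i hi => Ideal.mul_mem_left _ _ ?_)
    exact Ideal.subset_span ⟨i, Finset.mem_coe.mpr hi, rfl⟩
  have h5 : IsLocalRing.maximalIdeal A = Ideal.span s := by
    apply le_antisymm
    · rw [← hx, Ideal.span_le]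
      rintro _ ⟨i, rfl⟩
      by_cases hi : i = i₀
      · rw [hi]
        exact h1
      · exact Ideal.subset_span ⟨i, Finset.mem_coe.mpr (Finset.mem_erase.mpr ⟨hi, Finset.mem_univ i⟩),
          rfl⟩
    · rw [← hx]
      exact Ideal.span_mono (Set.image_subset_range _ _)
  have h6 : (Ideal.span s).spanFinrank ≤ s.ncard :=
    Submodule.spanFinrank_span_le_ncard_of_finite ((Finset.finite_toSet _).image x)
  have h7 : s.ncard ≤ n - 1 := by
    refine (Set.ncard_image_le (Finset.finite_toSet _)).trans ?_
    rw [Set.ncard_coe_finset, Finset.card_erase_of_mem (Finset.mem_univ i₀), Finset.card_univ,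
      Fintype.card_fin]
  rw [← h5, hn] at h6
  have : 0 < n := Fin.pos i₀
  omega

end minimal

section indep

variable [IsLocalRing A] [IsNoetherianRing A]

/-- the identity, as a ring isomorphism onto the target of the iterated Frobenius -/
def toTarget (e : ℕ) : A ≃+* Tw.FrobTarget p e A := RingEquiv.refl A

theorem frobTarget_algebraMap (e : ℕ) (r : A) :
    algebraMap A (Tw.FrobTarget p e A) r = toTarget p e (r ^ p ^ e) := rfl

theorem frobTarget_smul_def (e : ℕ) (r : A) (s : Tw.FrobTarget p e A) :
    r • s = toTarget p e (r ^ p ^ e) * s := Algebra.smul_def r s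

/-- flatness of `F^e` makes the `q`-th powers of minimal generators of `𝔪` independent -/
theorem indep_pow_of_flat (e : ℕ) (hFe : (iterateFrobenius A p e).Flat) {n : ℕ} (x : Fin n → A)
    (hx : Ideal.span (Set.range x) = IsLocalRing.maximalIdeal A)
    (hn : (IsLocalRing.maximalIdeal A).spanFinrank = n) :
    Indep (powFam x fun _ => p ^ e) := by
  intro a ha
  have hflat : Module.Flat A (Tw.FrobTarget p e A) := hFe
  obtain ⟨φ, hφ⟩ : ∃ φ : A ≃+* Tw.FrobTarget p e A,
      ∀ (r : A) (s : Tw.FrobTarget p e A), r • s = φ (r ^ p ^ e) * s :=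
    ⟨toTarget p e, fun r s => frobTarget_smul_def p e r s⟩
  have hrel : ∑ i, x i • φ (a i) = 0 := by
    rw [Finset.sum_congr rfl fun i _ => hφ (x i) (φ (a i))]
    simp only [← map_mul, ← map_sum]
    rw [← map_zero φ, ← ha]
    congr 1
    exact Finset.sum_congr rfl fun i _ => by
      unfold powFam
      ring
  have h : ∃ (k : ℕ) (c : Fin n → Fin k → A) (y : Fin k → Tw.FrobTarget p e A),
      (∀ i, φ (a i) = ∑ j, c i j • y j) ∧ ∀ j, ∑ i, x i * c i j = 0 :=
    Module.Flat.isTrivialRelation_of_sum_smul_eq_zero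
      (R := A) (M := Tw.FrobTarget p e A) (f := x) (x := fun i => φ (a i)) hrel
  obtain ⟨k, c, y, hy, hcx⟩ := h
  intro i
  have hci : ∀ j, c i j ∈ IsLocalRing.maximalIdeal A := fun j =>
    mem_maximalIdeal_of_relation x hx hn (fun i' => c i' j) (by
      rw [← hcx j]
      exact Finset.sum_congr rfl fun i' _ => mul_comm _ _) i
  have hai : a i = ∑ j, (c i j) ^ p ^ e * φ.symm (y j) := by
    have h1 : φ (a i) = ∑ j, φ ((c i j) ^ p ^ e) * y j := by
      rw [hy i]
      exact Finset.sum_congr rfl fun j _ => hφ (c i j) (y j)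
    have h2 := congrArg φ.symm h1
    rw [RingEquiv.symm_apply_apply, map_sum] at h2
    rw [h2]
    exact Finset.sum_congr rfl fun j _ => by
      rw [map_mul, RingEquiv.symm_apply_apply]
  rw [hai]
  refine Ideal.sum_mem _ fun j _ => Ideal.mul_mem_right _ _ ?_
  have h2 : c i j ∈ Ideal.span (Set.range x) := by
    rw [hx]
    exact hci j
  have h3 := Ideal.mem_map_of_mem (iterateFrobenius A p e) h2
  rw [Ideal.map_span, ← Set.range_comp] at h3
  have h4 : (⇑(iterateFrobenius A p e) ∘ x) = powFam x fun _ => p ^ e := by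
    funext i'
    rw [Function.comp_apply, iterateFrobenius_def]
    rfl
  rw [h4, iterateFrobenius_def] at h3
  exact h3

end indep

section main

variable [IsLocalRing A] [IsNoetherianRing A]

omit [Fact p.Prime] [CharP A p] in
theorem exists_nat_ringKrullDim_eq : ∃ d : ℕ, ringKrullDim A = d := by
  have h1 := ringKrullDim_ne_bot (R := A)
  have h2 := ringKrullDim_ne_top (R := A)
  generalize ringKrullDim A = D at h1 h2
  induction D with
  | bot => exact absurd rfl h1
  | coe D =>
    induction D with
    | top => exact absurd rfl h2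
    | coe n => exact ⟨n, rfl⟩

/-- **Kunz**: a Noetherian local ring with flat Frobenius is regular -/
theorem isRegularLocalRing_of_frobenius_flat (hF : (frobenius A p).Flat) :
    IsRegularLocalRing A := by
  classical
  obtain ⟨d, hd⟩ := exists_nat_ringKrullDim_eq (A := A)
  obtain ⟨s, hcard, hspan⟩ := Submodule.FG.exists_span_finset_card_eq_spanFinrank
    (IsNoetherian.noetherian (IsLocalRing.maximalIdeal A))
  set m := IsLocalRing.maximalIdeal A with hm
  let x : Fin s.card → A := fun i => ((s.equivFin.symm i : s) : A)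
  have hrange : Set.range x = (s : Set A) := by
    ext a
    constructor
    · rintro ⟨j, rfl⟩
      exact (s.equivFin.symm j).2
    · intro ha
      exact ⟨s.equivFin ⟨a, ha⟩, by
        change ((s.equivFin.symm (s.equivFin ⟨a, ha⟩) : s) : A) = a
        rw [Equiv.symm_apply_apply]⟩
  have hx : Ideal.span (Set.range x) = m := by
    rw [hrange]
    exact hspan
  have hn : m.spanFinrank = s.card := hcard.symm
  have hI : ∃ N : ℕ, m ^ N ≤ m := ⟨1, by rw [pow_one]⟩
  -- lower bound
  have hlow : ∀ e : ℕ, (p ^ e) ^ s.card ≤ lam p m e A := by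
    intro e
    have hq := indep_pow_of_flat p e (iterateFrobenius_flat p hF e) x hx hn
    have hL := length_quotient_powFam x (p ^ e) hq _ (fun _ => p ^ e) (fun _ => le_rfl) rfl
    have h4 : Ideal.span (Set.range (powFam x fun _ => p ^ e)) =
        Ideal.map (iterateFrobenius A p e) m := by
      rw [← hx, Ideal.map_span, ← Set.range_comp]
      congr 2
    rw [h4, hx, Finset.prod_const, Finset.card_univ, Fintype.card_fin] at hL
    have h1 : (1 : ℕ∞) ≤ Module.length A (A ⧸ m) := by
      rw [Order.one_le_iff_ne_zero, Ne, Module.length_eq_zero_iff, not_subsingleton_iff_nontrivial]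
      exact Ideal.Quotient.nontrivial_iff.mpr (IsLocalRing.maximalIdeal.isMaximal A).ne_top
    have h2 : (((p ^ e) ^ s.card : ℕ) : ℕ∞) ≤
        Module.length A (A ⧸ Ideal.map (iterateFrobenius A p e) m) := by
      rw [hL]
      calc (((p ^ e) ^ s.card : ℕ) : ℕ∞) = (((p ^ e) ^ s.card : ℕ) : ℕ∞) * 1 := (mul_one _).symm
        _ ≤ _ := mul_le_mul_right h1 _
    rw [lam_self]
    have h3 : Module.length A (A ⧸ Ideal.map (iterateFrobenius A p e) m) ≠ ⊤ := by
      have := qlen_fpow_ne_top p hI e A
      unfold HK.qlen fpow at this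
      rwa [length_quotient_smul_top_self] at this
    have := ENat.toNat_le_toNat h2 h3
    rwa [ENat.toNat_natCast] at this
  -- upper bound
  obtain ⟨C, hC⟩ := small_of_supportDim_lt p hI (d + 1) A (by
    rw [supportDim_self_eq_ringKrullDim, hd]
    exact_mod_cast Nat.lt_succ_self d)
  apply IsRegularLocalRing.of_spanFinrank_maximalIdeal_le
  rw [← hm, hn, hd]
  by_contra hcon
  have hdn : d + 1 ≤ s.card := by
    by_contra h
    apply hcon
    have : s.card ≤ d := by omega
    exact_mod_cast this
  have hp1 : 1 < p := (Fact.out : p.Prime).one_lt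
  have hq1 : 1 ≤ p ^ C := Nat.one_le_pow _ _ (by omega)
  have h5 := hC C
  have h6 := hlow C
  have h7 : (p ^ C) ^ (d + 1) ≤ (p ^ C) ^ s.card := Nat.pow_le_pow_right hq1 hdn
  have h8 : (p ^ C) ^ (d + 1) * p ^ C ≤ C * (p ^ C) ^ (d + 1) :=
    (Nat.mul_le_mul_right _ (h7.trans h6)).trans h5
  have h9 : 0 < (p ^ C) ^ (d + 1) := by positivity
  have h10 : p ^ C ≤ C := by
    exact Nat.le_of_mul_le_mul_right (by rw [mul_comm] at h8; exact h8) h9
  exact absurd h10 (not_le.mpr (Nat.lt_pow_self hp1))

end main

end Groth.Agent.Lib.Helper85.Kunz
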