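import Mathlib
import Groth.Agent.Lib.Helper85.Kunz.FlatRegular
import Groth.Agent.Lib.Helper85.Kunz.RegularFlat

/-!
# Kunz's theorem: regular iff Frobenius flat (helper85)
-/

set_option autoImplicit false
set_option linter.style.haveILetI false
set_option linter.unusedSectionVars false
universe u

namespace Groth.Agent.Lib.Helper85.Kunz

variable (p : ℕ) [Fact p.Prime] (R : Type u) [CommRing R] [CharP R p]

theorem comap_frobenius_eq (J : Ideal R) [J.IsPrime] : J.comap (frobenius R p) = J := by
  ext a
  rw [Ideal.mem_comap, frobenius_def]
  exact Ideal.IsPrime.pow_mem_iff_mem inferInstance p (Fact.out : p.Prime).pos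

theorem charP_localization (J : Ideal R) [J.IsPrime] : CharP (Localization.AtPrime J) p := by
  rw [CharP.charP_iff_prime_eq_zero (Fact.out : p.Prime)]
  have h : (p : R) = 0 := CharP.cast_eq_zero R p
  have h2 := congrArg (algebraMap R (Localization.AtPrime J)) h
  rwa [map_natCast, map_zero] at h2

theorem localRingHom_frobenius (J : Ideal R) [J.IsPrime] (hJ : J = J.comap (frobenius R p)) :
    haveI := charP_localization p R J
    Localization.localRingHom J J (frobenius R p) hJ = frobenius (Localization.AtPrime J) p := by
  haveI := charP_localization p R J
  apply Localization.localRingHom_unique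
  intro x
  rw [frobenius_def, frobenius_def, map_pow]

theorem flat_localRingHom_of_eq (I J : Ideal R) [I.IsPrime] [J.IsPrime]
    (hIJ : I = J.comap (frobenius R p)) (hI : I = J)
    (h : haveI := charP_localization p R J; (frobenius (Localization.AtPrime J) p).Flat) :
    (Localization.localRingHom I J (frobenius R p) hIJ).Flat := by
  subst hI
  rw [localRingHom_frobenius]
  exact h

/-- **Kunz's theorem** -/
theorem isRegularRing_iff_frobenius_flat [IsNoetherianRing R] :
    IsRegularRing R ↔ (frobenius R p).Flat := by
  constructor
  · intro hreg
    apply RingHom.Flat.ofLocalizationPrime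
    intro J hJ
    haveI := charP_localization p R J
    exact flat_localRingHom_of_eq p R (J.comap (frobenius R p)) J rfl (comap_frobenius_eq p R J)
      (frobenius_flat_of_isRegularLocalRing (Localization.AtPrime J) p)
  · intro hF
    rw [isRegularRing_iff]
    intro P hP
    haveI := charP_localization p R P
    have h1 := RingHom.Flat.localRingHom hF P P (comap_frobenius_eq p R P).symm
    rw [localRingHom_frobenius] at h1
    exact isRegularLocalRing_of_frobenius_flat p h1

end Groth.Agent.Lib.Helper85.Kunz
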